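import Mathlib
import Cfsg.Prelude.Def_GeometricClasses
import Cfsg.Agent.ClassicalGeometry.Reflection
import Cfsg.Agent.ClassicalGeometry.Eichler
set_option linter.all false

-- part: H889/Transport
section
/-!
Transport of `omegaGL`, `tensorProductSubgroup`, `tensorWreathSubgroup` along a change of basis `P` and a
bijection of index sets `e`: every statement about a subgroup of `GL(ι, F)` given through `(e, P)` is
equivalent to one about the standard subgroup of `GL(κ, F)`.
-/

set_option autoImplicit false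
set_option linter.unusedSectionVars false

namespace Cfsg.Agent.H889

open Matrix Cfsg.Geo
open scoped MatrixGroups

variable {ι κ : Type} [Fintype ι] [DecidableEq ι] [Fintype κ] [DecidableEq κ] {F : Type*} [Field F]

/-- The isomorphism `GL(κ, F) ≃* GL(ι, F)` given by reindexing along `e` and conjugating by `P`. -/
noncomputable def conjEquiv (e : ι ≃ κ) (P : GL ι F) : GL κ F ≃* GL ι F :=
  (glReindex e.symm).trans (MulAut.conj P)

/-- The quadratic form (a function) on `κ → F` transported from `Q` along `(e, P)`. -/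
def pullForm (e : ι ≃ κ) (P : GL ι F) (Q : (ι → F) → F) : (κ → F) → F :=
  fun x => Q ((P : Matrix ι ι F) *ᵥ (x ∘ e))

theorem conjEquiv_apply (e : ι ≃ κ) (P : GL ι F) (g : GL κ F) :
    conjEquiv e P g = P * glReindex e.symm g * P⁻¹ := rfl

theorem coe_glReindex (e : ι ≃ κ) (g : GL κ F) :
    ((glReindex e.symm g : GL ι F) : Matrix ι ι F) = (g : Matrix κ κ F).submatrix e e := rfl

theorem mulVec_conjEquiv (e : ι ≃ κ) (P : GL ι F) (g : GL κ F) (x : κ → F) :
    ((conjEquiv e P g : GL ι F) : Matrix ι ι F) *ᵥ ((P : Matrix ι ι F) *ᵥ (x ∘ e)) =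
      (P : Matrix ι ι F) *ᵥ (((g : Matrix κ κ F) *ᵥ x) ∘ e) := by
  rw [conjEquiv_apply, Units.val_mul, Units.val_mul, Matrix.mulVec_mulVec, mul_assoc, mul_assoc,
    ← Units.val_mul, inv_mul_cancel, Units.val_one, mul_one, ← Matrix.mulVec_mulVec, coe_glReindex]
  congr 1
  have h := Matrix.submatrix_mulVec_equiv (g : Matrix κ κ F) (x ∘ e) (e : ι → κ) e
  rw [h]
  simp [Function.comp_assoc]

/-- Every vector of `ι → F` is `P (x ∘ e)` for some `x`. -/
theorem exists_preimage (e : ι ≃ κ) (P : GL ι F) (v : ι → F) :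
    ∃ x : κ → F, v = (P : Matrix ι ι F) *ᵥ (x ∘ e) := by
  refine ⟨(((P⁻¹ : GL ι F) : Matrix ι ι F) *ᵥ v) ∘ e.symm, ?_⟩
  have h : ((((P⁻¹ : GL ι F) : Matrix ι ι F) *ᵥ v) ∘ e.symm) ∘ e =
      ((P⁻¹ : GL ι F) : Matrix ι ι F) *ᵥ v := by
    funext i; simp
  rw [h, Matrix.mulVec_mulVec, ← Units.val_mul, mul_inv_cancel, Units.val_one, Matrix.one_mulVec]

theorem mem_isometryGroup_iff' (Q : (ι → F) → F) (g : GL ι F) :
    g ∈ Cfsg.isometryGroup F Q ↔ ∀ x, Q ((g : Matrix ι ι F) *ᵥ x) = Q x :=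
  ⟨fun h x => h x x, fun h x _ => h x⟩

theorem conjEquiv_mem_isometryGroup (e : ι ≃ κ) (P : GL ι F) (Q : (ι → F) → F) (g : GL κ F) :
    conjEquiv e P g ∈ Cfsg.isometryGroup F Q ↔ g ∈ Cfsg.isometryGroup F (pullForm e P Q) := by
  rw [mem_isometryGroup_iff', mem_isometryGroup_iff']
  constructor
  · intro h x
    have := h ((P : Matrix ι ι F) *ᵥ (x ∘ e))
    rw [mulVec_conjEquiv] at this
    exact this
  · intro h v
    obtain ⟨x, rfl⟩ := exists_preimage e P v
    rw [mulVec_conjEquiv]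
    exact h x

theorem isometryGroup_map (e : ι ≃ κ) (P : GL ι F) (Q : (ι → F) → F) :
    (Cfsg.isometryGroup F (pullForm e P Q)).map (conjEquiv e P).toMonoidHom =
      Cfsg.isometryGroup F Q := by
  ext h
  constructor
  · rintro ⟨g, hg, rfl⟩
    exact (conjEquiv_mem_isometryGroup e P Q g).2 hg
  · intro hh
    refine ⟨(conjEquiv e P).symm h, ?_, (conjEquiv e P).apply_symm_apply h⟩
    have := (conjEquiv_mem_isometryGroup e P Q ((conjEquiv e P).symm h)).1
    rw [(conjEquiv e P).apply_symm_apply h] at this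
    exact this hh

theorem omegaGL_eq_commutator (Q : (ι → F) → F) :
    omegaGL Q = ⁅Cfsg.isometryGroup F Q, Cfsg.isometryGroup F Q⁆ := by
  unfold omegaGL
  exact Subgroup.map_subtype_commutator _

theorem omegaGL_map (e : ι ≃ κ) (P : GL ι F) (Q : (ι → F) → F) :
    (omegaGL (pullForm e P Q)).map (conjEquiv e P).toMonoidHom = omegaGL Q := by
  rw [omegaGL_eq_commutator, omegaGL_eq_commutator, Subgroup.map_commutator, isometryGroup_map]

theorem tensorProductSubgroup_eq (n₁ n₂ : ℕ) (e : ι ≃ Fin n₁ × Fin n₂) (P : GL ι F) :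
    tensorProductSubgroup n₁ n₂ e P = (kroneckerSubgroup n₁ n₂ F).map (conjEquiv e P).toMonoidHom := by
  unfold tensorProductSubgroup
  rw [Subgroup.map_map]
  rfl

theorem tensorWreathSubgroup_eq (m t : ℕ) (e : ι ≃ (Fin t → Fin m)) (P : GL ι F) :
    tensorWreathSubgroup m t e P = (tensorWreathStandard m t F).map (conjEquiv e P).toMonoidHom := by
  unfold tensorWreathSubgroup
  rw [Subgroup.map_map]
  rfl

theorem map_inf_conjEquiv (e : ι ≃ κ) (P : GL ι F) (A B : Subgroup (GL κ F)) :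
    (A ⊓ B).map (conjEquiv e P).toMonoidHom =
      A.map (conjEquiv e P).toMonoidHom ⊓ B.map (conjEquiv e P).toMonoidHom :=
  Subgroup.map_inf _ _ _ (conjEquiv e P).injective

theorem map_lt_map_conjEquiv (e : ι ≃ κ) (P : GL ι F) (A B : Subgroup (GL κ F)) :
    A.map (conjEquiv e P).toMonoidHom < B.map (conjEquiv e P).toMonoidHom ↔ A < B := by
  rw [lt_iff_le_not_ge, lt_iff_le_not_ge, Subgroup.map_le_map_iff_of_injective (conjEquiv e P).injective,
    Subgroup.map_le_map_iff_of_injective (conjEquiv e P).injective]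

/-- Non-maximality transports. -/
theorem exists_between_of_pull (e : ι ≃ κ) (P : GL ι F) (Q : (ι → F) → F) (T : Subgroup (GL κ F))
    (h : ∃ K : Subgroup (GL κ F), T ⊓ omegaGL (pullForm e P Q) < K ∧ K < omegaGL (pullForm e P Q)) :
    ∃ K : Subgroup (GL ι F), T.map (conjEquiv e P).toMonoidHom ⊓ omegaGL Q < K ∧ K < omegaGL Q := by
  obtain ⟨K, h1, h2⟩ := h
  refine ⟨K.map (conjEquiv e P).toMonoidHom, ?_, ?_⟩
  · rw [← omegaGL_map e P Q, ← map_inf_conjEquiv, map_lt_map_conjEquiv]
    exact h1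
  · rw [← omegaGL_map e P Q, map_lt_map_conjEquiv]
    exact h2

/-- Maximality transports. -/
theorem isMaximalIn_of_pull (e : ι ≃ κ) (P : GL ι F) (Q : (ι → F) → F) (T : Subgroup (GL κ F))
    (h : IsMaximalIn (omegaGL (pullForm e P Q)) (T ⊓ omegaGL (pullForm e P Q))) :
    IsMaximalIn (omegaGL Q) (T.map (conjEquiv e P).toMonoidHom ⊓ omegaGL Q) := by
  obtain ⟨h1, h2⟩ := h
  rw [← omegaGL_map e P Q, ← map_inf_conjEquiv]
  refine ⟨(map_lt_map_conjEquiv e P _ _).2 h1, ?_⟩
  intro M hM1 hM2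
  have hM : M = (M.map (conjEquiv e P).symm.toMonoidHom).map (conjEquiv e P).toMonoidHom := by
    rw [Subgroup.map_map]
    ext x
    simp
  rw [hM] at hM1 hM2 ⊢
  rw [Subgroup.map_le_map_iff_of_injective (conjEquiv e P).injective] at hM1 hM2
  rcases h2 _ hM1 hM2 with h | h
  · left; rw [h]
  · right; rw [h]

end Cfsg.Agent.H889
end

-- part: H889/QForm
section
/-!
Bundling of `IsNondegenerateQuadraticForm` as a Mathlib `QuadraticForm`, and Siegel transformations as elements
of `omegaGL`.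
-/

set_option autoImplicit false
set_option linter.unusedSectionVars false

namespace Cfsg.Agent.H889

open Matrix Cfsg.Geo QuadraticMap
open scoped MatrixGroups

variable {ι κ : Type} [Fintype ι] [DecidableEq ι] [Fintype κ] [DecidableEq κ] {F : Type*} [Field F]

/-- The bundled quadratic form. -/
def bundleQ (Q : (ι → F) → F) (hQ : IsNondegenerateQuadraticForm Q) : QuadraticForm F (ι → F) where
  toFun := Q
  toFun_smul a x := by rw [hQ.smul, smul_eq_mul, _root_.sq]
  exists_companion' := ⟨LinearMap.mk₂ F (polar Q) hQ.polar_bilinear.add_left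
    (fun c x y => by rw [hQ.polar_bilinear.smul_left, smul_eq_mul])
    (fun x y z => hQ.polar_bilinear.add_right x y z)
    (fun c x y => by rw [hQ.polar_bilinear.smul_right, smul_eq_mul]), fun x y => by
      rw [LinearMap.mk₂_apply, polar]; ring⟩

@[simp] theorem coe_bundleQ (Q : (ι → F) → F) (hQ : IsNondegenerateQuadraticForm Q) :
    (⇑(bundleQ Q hQ) : (ι → F) → F) = Q := rfl

theorem bundleQ_nondegenerate (Q : (ι → F) → F) (hQ : IsNondegenerateQuadraticForm Q) :
    (polarBilin (bundleQ Q hQ)).Nondegenerate := by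
  constructor
  · intro x hx
    by_contra hne
    obtain ⟨-, y, hy⟩ := hQ.nondegenerate x hne
    exact hy (hx y)
  · intro x hx
    by_contra hne
    obtain ⟨⟨y, hy⟩, -⟩ := hQ.nondegenerate x hne
    exact hy (hx y)

theorem map_add_Q (Q : (ι → F) → F) (x y : ι → F) : Q (x + y) = Q x + Q y + polar Q x y := by
  rw [polar]; ring

theorem map_zero_Q (Q : (ι → F) → F) (hQ : IsNondegenerateQuadraticForm Q) : Q 0 = 0 := by
  have := hQ.smul 0 0
  simpa using this

/-- A quadratic form pulls back to a quadratic form. -/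
theorem pullForm_nondegenerate (e : ι ≃ κ) (P : GL ι F) (Q : (ι → F) → F)
    (hQ : IsNondegenerateQuadraticForm Q) : IsNondegenerateQuadraticForm (pullForm e P Q) := by
  have hp : ∀ x y, polar (pullForm e P Q) x y =
      polar Q ((P : Matrix ι ι F) *ᵥ (x ∘ e)) ((P : Matrix ι ι F) *ᵥ (y ∘ e)) := by
    intro x y
    simp only [polar, pullForm]
    rw [← Matrix.mulVec_add]
    rfl
  have hadd : ∀ x y : κ → F, (P : Matrix ι ι F) *ᵥ ((x + y) ∘ e) =
      (P : Matrix ι ι F) *ᵥ (x ∘ e) + (P : Matrix ι ι F) *ᵥ (y ∘ e) := by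
    intro x y
    rw [← Matrix.mulVec_add]
    rfl
  have hsmul : ∀ (c : F) (x : κ → F), (P : Matrix ι ι F) *ᵥ ((c • x) ∘ e) =
      c • (P : Matrix ι ι F) *ᵥ (x ∘ e) := by
    intro c x
    rw [← Matrix.mulVec_smul]
    rfl
  refine ⟨?_, ?_, ?_⟩
  · intro c v
    simp only [pullForm]
    rw [hsmul, hQ.smul]
  · refine ⟨?_, ?_, ?_, ?_⟩
    · intro x y v
      rw [hp, hp, hp, hadd, hQ.polar_bilinear.add_left]
    · intro c x v
      rw [hp, hp, hsmul, hQ.polar_bilinear.smul_left]
    · intro v x y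
      rw [hp, hp, hp, hadd, hQ.polar_bilinear.add_right]
    · intro c x v
      rw [hp, hp, hsmul, hQ.polar_bilinear.smul_right]
  · intro v hv
    have hne : (P : Matrix ι ι F) *ᵥ (v ∘ e) ≠ 0 := by
      intro h
      apply hv
      have h2 : ((P⁻¹ : GL ι F) : Matrix ι ι F) *ᵥ ((P : Matrix ι ι F) *ᵥ (v ∘ e)) = 0 := by
        rw [h, Matrix.mulVec_zero]
      rw [Matrix.mulVec_mulVec, ← Units.val_mul, inv_mul_cancel, Units.val_one,
        Matrix.one_mulVec] at h2
      funext k
      have := congrFun h2 (e.symm k)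
      simpa using this
    obtain ⟨⟨x, hx⟩, ⟨y, hy⟩⟩ := hQ.nondegenerate _ hne
    obtain ⟨x', rfl⟩ := exists_preimage e P x
    obtain ⟨y', rfl⟩ := exists_preimage e P y
    exact ⟨⟨x', by rw [hp]; exact hx⟩, ⟨y', by rw [hp]; exact hy⟩⟩

theorem polar_pullForm (e : ι ≃ κ) (P : GL ι F) (Q : (ι → F) → F) (x y : κ → F) :
    polar (pullForm e P Q) x y =
      polar Q ((P : Matrix ι ι F) *ᵥ (x ∘ e)) ((P : Matrix ι ι F) *ᵥ (y ∘ e)) := by
  simp only [polar, pullForm]
  rw [← Matrix.mulVec_add]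
  rfl

/-- The Siegel transformation of a pair of orthogonal singular vectors as an element of `omegaGL`, dimension `≥ 5`. -/
theorem exists_siegel_omegaGL (Q : (ι → F) → F) (hQ : IsNondegenerateQuadraticForm Q)
    (hn : 5 ≤ Fintype.card ι) (u v : ι → F) (hu : Q u = 0) (hv : Q v = 0)
    (huv : polar Q u v = 0) :
    ∃ g : GL ι F, g ∈ omegaGL Q ∧
      ∀ x, (g : Matrix ι ι F) *ᵥ x = x + (polar Q u x • v - polar Q v x • u) := by
  set B := bundleQ Q hQ with hB
  have hBQ : (⇑B : (ι → F) → F) = Q := rfl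
  have hcv : polar (⇑B) u ((1 : F) • v) = 0 := by rw [one_smul]; exact huv
  let g := Cfsg.Agent.ClassicalGeometry.Eichler.eichlerIso B u ((1 : F) • v) hu hcv
  have hg : ((g : Matrix.GeneralLinearGroup ι F) : Matrix ι ι F) = Cfsg.siegelMatrix (⇑B) u v 1 := by
    rw [Cfsg.Agent.ClassicalGeometry.Eichler.siegelMatrix_eq B u v 1 hv]
    rfl
  have hmem := Cfsg.Agent.ClassicalGeometry.Eichler.siegel_mem_commutatorSet B
    (bundleQ_nondegenerate Q hQ) hn u v hu hv huv 1 g hg
  refine ⟨(g : Matrix.GeneralLinearGroup ι F), ?_, ?_⟩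
  · have hg2 : g ∈ commutator (Cfsg.isometryGroup F (⇑B)) := by
      obtain ⟨a, b, hab⟩ := hmem
      rw [← hab, commutator_def]
      exact Subgroup.commutator_mem_commutator (Subgroup.mem_top a) (Subgroup.mem_top b)
    exact Subgroup.mem_map_of_mem (Cfsg.isometryGroup F (⇑B)).subtype hg2
  · intro x
    rw [hg, Cfsg.Agent.ClassicalGeometry.Reflection.siegelMatrix_mulVec, one_smul]
    rfl

end Cfsg.Agent.H889
end
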